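import Mathlib
import Cfsg.Agent.H607.TW.Defs
import Cfsg.Agent.CpAut.Fix
import Cfsg.Agent.S1265
import Cfsg.Agent.Lib.Cores
import Cfsg.Agent.SignalizersComponents.Components

/-!
# S3694, T9: outer automorphisms of field type, the abstract part (helper76)

* `Sett.conj` : change of the model and conjugation of the setting of `CpAut.Fix`;
* `card_fix` : `|C_G(α)|` divides `|H₀| |Z(H)|`;
* `key` : for `Loc N A r`, `x` centralizing exactly `A ∩ N` in `N`, with the setting `H₀ → S → N`: `H₀ / Z(H₀)` is not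
  quasisimple, `r` divides `|A ∩ N|` and `|A ∩ N|` divides `|H₀| |Z(S)|`.
-/

set_option autoImplicit false

namespace Cfsg.Agent.H76.TW.Field

open Subgroup Cfsg Cfsg.Agent.H607.TW Cfsg.Agent.CpAut.Fix
open scoped commutatorElement

section Abs

variable {H G G' H₀ : Type*} [Group H] [Group G] [Group G'] [Group H₀]

/-- Change of the model and conjugation. -/
theorem sett_conj {π₀ : H →* G} {γ₀ : MulAut H} {α₀ : MulAut G} {f : H₀ →* H} (S : Sett π₀ γ₀ α₀ f)
    (hker₀ : ∀ h, π₀ h = 1 ↔ h ∈ center H)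
    {π : H →* G'} (hs : Function.Surjective π) (hker : ∀ h, π h = 1 ↔ h ∈ center H) (δ : MulAut H) {α : MulAut G'}
    (hc : ∀ h, α (π h) = π ((δ * γ₀ * δ⁻¹) h)) : Sett π (δ * γ₀ * δ⁻¹) α (δ.toMonoidHom.comp f) where
  surj := hs
  ker := fun h hh => (hker h).1 hh
  compat := hc
  inj := by
    intro a b hab
    exact S.inj (δ.injective hab)
  fix h := by
    change (δ * γ₀ * δ⁻¹) (δ (f h)) = δ (f h)
    rw [MulAut.mul_apply, MulAut.mul_apply, MulAut.inv_apply_self, S.fix]
  comm a b ha hb := by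
    have h1 : ∀ c, (δ * γ₀ * δ⁻¹) c = c → γ₀ (δ⁻¹ c) = δ⁻¹ c := by
      intro c h
      rw [MulAut.mul_apply, MulAut.mul_apply] at h
      conv_rhs => rw [← h, MulAut.inv_apply_self]
    obtain ⟨c, hc'⟩ := S.comm _ _ (h1 a ha) (h1 b hb)
    refine ⟨c, ?_⟩
    change δ (f c) = _
    rw [hc', map_commutatorElement, MulAut.apply_inv_self, MulAut.apply_inv_self]
  cen h := by
    rw [hker, ← S.cen, hker₀]
    change δ (f h) ∈ center H ↔ _
    constructor
    · intro h1
      rw [mem_center_iff] at h1 ⊢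
      intro g
      apply δ.injective
      rw [map_mul, map_mul]
      exact h1 _
    · intro h1
      rw [mem_center_iff] at h1 ⊢
      intro g
      have h2 := congrArg δ (h1 (δ⁻¹ g))
      rw [map_mul, map_mul, MulAut.apply_inv_self] at h2
      exact h2

/-- `|C_G(α)|` divides `|H₀| |Z(H)|`. -/
theorem card_fix [Finite H] {π : H →* G} {γ : MulAut H} {α : MulAut G} {f : H₀ →* H} (S : Sett π γ α f)
    (hr : ∀ a, γ a = a → a ∈ f.range) : Nat.card ↥(fixedSubgroup α) ∣ Nat.card H₀ * Nat.card ↥(center H) := by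
  let T : Subgroup H := (fixedSubgroup α).comap π
  have hT : ∀ t : ↥T, (t : H)⁻¹ * γ t ∈ center H := by
    intro t
    apply S.ker
    rw [MonoidHom.mem_ker, map_mul, map_inv, ← S.compat]
    have h1 : α (π (t : H)) = π (t : H) := t.2
    rw [h1, inv_mul_cancel]
  let δ : ↥T →* ↥(center H) :=
    { toFun := fun t => ⟨(t : H)⁻¹ * γ t, hT t⟩
      map_one' := by
        apply Subtype.ext
        change (1 : H)⁻¹ * γ 1 = 1
        rw [map_one, inv_one, one_mul]
      map_mul' := by
        intro a b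
        apply Subtype.ext
        change ((a : H) * b)⁻¹ * γ (a * b) = ((a : H)⁻¹ * γ a) * ((b : H)⁻¹ * γ b)
        have h1 := mem_center_iff.1 (hT a) ((b : H)⁻¹)
        calc ((a : H) * b)⁻¹ * γ (a * b) = (b : H)⁻¹ * ((a : H)⁻¹ * γ a) * γ b := by
              rw [map_mul]; group
          _ = _ := by rw [h1]; group }
  have hdk : Nat.card ↥δ.ker * Nat.card ↥δ.range = Nat.card ↥T := by
    rw [← Subgroup.index_ker, Subgroup.card_mul_index]
  have hker : Nat.card ↥δ.ker ∣ Nat.card H₀ := by
    have h1 : (δ.ker.map T.subtype) ≤ f.range := by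
      rintro _ ⟨t, ht, rfl⟩
      apply hr
      have h2 : (t : H)⁻¹ * γ t = 1 := congrArg Subtype.val ht
      have h3 : (t : H) = γ t := (inv_mul_eq_one.1 h2)
      exact h3.symm
    have h2 : Nat.card ↥(δ.ker.map T.subtype) = Nat.card ↥δ.ker := by
      exact (Nat.card_congr (δ.ker.equivMapOfInjective T.subtype T.subtype_injective).toEquiv).symm
    have h3 : Nat.card ↥f.range = Nat.card H₀ := (Nat.card_congr (MonoidHom.ofInjective S.inj).toEquiv).symm
    rw [← h2, ← h3]
    exact Subgroup.card_dvd_of_le h1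
  have hran : Nat.card ↥δ.range ∣ Nat.card ↥(center H) := Subgroup.card_subgroup_dvd_card _
  have hTd : Nat.card ↥(fixedSubgroup α) ∣ Nat.card ↥T := by
    have h1 : T.map π = fixedSubgroup α := Subgroup.map_comap_eq_self_of_surjective S.surj _
    rw [← h1]
    exact Subgroup.card_map_dvd T π
  exact hTd.trans (hdk ▸ mul_dvd_mul hker hran)

end Abs

section Loc

variable {A : Type*} [Group A] [Finite A]

/-- A normal subgroup `C ≠ 1` of a group with `F*(A) = O_r(A)` has order divisible by `r`. -/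
theorem dvd_card {r : ℕ} (hp : r.Prime) (hstar : generalizedFittingSubgroup A = pCore r A) {C : Subgroup A} (hC : C.Normal)
    (hne : C ≠ ⊥) : r ∣ Nat.card ↥C := by
  have : Fact r.Prime := ⟨hp⟩
  have hQn : (pCore r A).Normal := Lib.Cores.pCore_normal r
  have hne' : C ⊓ pCore r A ≠ ⊥ := by
    intro h0
    apply hne
    have h1 : C ≤ centralizer (pCore r A : Set A) := by
      intro c hc
      rw [mem_centralizer_iff]
      intro k hk
      have h2 : ⁅c, k⁆ ∈ C ⊓ pCore r A := by
        constructor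
        · rw [commutatorElement_def]
          have := hC.conj_mem c⁻¹ (C.inv_mem hc) k
          have h3 : c * (k * c⁻¹ * k⁻¹) ∈ C := C.mul_mem hc this
          have h4 : c * k * c⁻¹ * k⁻¹ = c * (k * c⁻¹ * k⁻¹) := by group
          rw [h4]; exact h3
        · rw [commutatorElement_def]
          exact (pCore r A).mul_mem (hQn.conj_mem k hk c) ((pCore r A).inv_mem hk)
      rw [h0, mem_bot, commutatorElement_eq_one_iff_mul_comm] at h2
      exact h2.symm
    have h2 : C ≤ pCore r A := by
      have h3 := Cfsg.Agent.S1265.result (G := A)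
      rw [hstar] at h3
      exact h1.trans h3
    rw [← h0, inf_eq_left.2 h2]
  have hpg : IsPGroup r ↥(C ⊓ pCore r A) := (Lib.Cores.pCore_isPGroup (G := A) r).to_le inf_le_right
  obtain ⟨k, hk⟩ := IsPGroup.iff_card.1 hpg
  have h1 : Nat.card ↥(C ⊓ pCore r A) ∣ Nat.card ↥C := Subgroup.card_dvd_of_le inf_le_left
  have hk0 : k ≠ 0 := by
    rintro rfl
    rw [pow_zero, Subgroup.card_eq_one] at hk
    exact hne' hk
  refine dvd_trans ?_ h1
  rw [hk]
  exact dvd_pow_self r hk0

/-- No quasisimple characteristic subgroup of a normal subgroup. -/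
theorem not_quasisimple {r : ℕ} (hp : r.Prime) (hstar : generalizedFittingSubgroup A = pCore r A) {C : Subgroup A}
    (hC : C.Normal) (K : Subgroup ↥C) (hK : K.Characteristic) (hq : IsQuasisimple ↥K) : False := by
  have : Fact r.Prime := ⟨hp⟩
  have hn : (K.map C.subtype).Normal := inferInstance
  have hq' : IsQuasisimple ↥(K.map C.subtype) :=
    (CpQuot.Congr.isQuasisimple_iff (K.equivMapOfInjective C.subtype C.subtype_injective)).1 hq
  have h1 : K.map C.subtype ≤ pCore r A := by
    rw [← hstar]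
    refine le_trans ?_ le_sup_left
    exact le_sSup ⟨hn.isSubnormal, hq'⟩
  have h2 : IsPGroup r ↥(K.map C.subtype) := (Lib.Cores.pCore_isPGroup (G := A) r).to_le h1
  have h3 : Group.IsNilpotent ↥(K.map C.subtype) := h2.isNilpotent
  exact SignalizersComponents.Components.quasisimple_not_isSolvable hq' inferInstance

end Loc

section Key

variable {G : Type*} [Group G] [Finite G]

/-- **The key step.** -/
theorem key {N A : Subgroup G} {r : ℕ} (h : Loc N A r) {x : G} (hcen : ∀ y ∈ A ⊓ N, x * y = y * x)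
    (hle : ∀ y ∈ N, x * y = y * x → y ∈ A) (hne : A ⊓ N ≠ ⊥) {S H₀ : Type*} [Group S] [Finite S] [Group H₀]
    {π : S →* ↥N} {γ : MulAut S} {α : MulAut ↥N} (hα : ∀ y : ↥N, ((α y : ↥N) : G) = x * y * x⁻¹)
    {f : H₀ →* S} (hS : Sett π γ α f) (hr : ∀ a, γ a = a → a ∈ f.range) :
    ¬ IsQuasisimple (H₀ ⧸ center H₀) ∧ r ∣ Nat.card ↥(A ⊓ N) ∧
      Nat.card ↥(A ⊓ N) ∣ Nat.card H₀ * Nat.card ↥(center S) := by
  have hmap : (fixedSubgroup α).map N.subtype = A ⊓ N := by
    ext y
    constructor
    · rintro ⟨z, hz, rfl⟩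
      have h1 : α z = z := hz
      have h2 : x * (z : G) * x⁻¹ = z := by rw [← hα, h1]
      have h3 : x * (z : G) = z * x := by rw [mul_inv_eq_iff_eq_mul] at h2; exact h2
      exact ⟨hle _ z.2 h3, z.2⟩
    · rintro ⟨hyA, hyN⟩
      refine ⟨⟨y, hyN⟩, ?_, rfl⟩
      change α ⟨y, hyN⟩ = ⟨y, hyN⟩
      apply Subtype.ext
      rw [hα]
      change x * y * x⁻¹ = y
      rw [hcen y ⟨hyA, hyN⟩, mul_inv_cancel_right]
  let e1 : ↥(fixedSubgroup α) ≃* ↥(A ⊓ N) :=
    ((fixedSubgroup α).equivMapOfInjective N.subtype N.subtype_injective).trans (MulEquiv.subgroupCongr hmap)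
  let C : Subgroup ↥A := (A ⊓ N).subgroupOf A
  let e2 : ↥C ≃* ↥(A ⊓ N) := Subgroup.subgroupOfEquivOfLe inf_le_left
  have hNn : N.Normal := h.normal
  have hC : C.Normal := by
    have h1 : C = N.subgroupOf A := by
      ext y
      simp [C, mem_subgroupOf]
    rw [h1]
    infer_instance
  have hCne : C ≠ ⊥ := by
    intro h0
    apply hne
    have h1 := Nat.card_congr e2.toEquiv
    rw [h0, card_bot] at h1
    exact (Subgroup.card_eq_one).1 h1.symm
  refine ⟨?_, ?_, ?_⟩
  · intro hq
    have hq1 : IsQuasisimple ↥((π.comp f).range.subgroupOf (fixedSubgroup α)) :=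
      (CpQuot.Congr.isQuasisimple_iff (hS.equiv.trans (Subgroup.subgroupOfEquivOfLe hS.le).symm)).1 hq
    have h1 : ⁅(π.comp f).range.subgroupOf (fixedSubgroup α), (π.comp f).range.subgroupOf (fixedSubgroup α)⁆ =
        (π.comp f).range.subgroupOf (fixedSubgroup α) := by
      have h2 : commutator ↥((π.comp f).range.subgroupOf (fixedSubgroup α)) = ⊤ := hq1.1.commutator_eq_top
      have h3 := congrArg (Subgroup.map ((π.comp f).range.subgroupOf (fixedSubgroup α)).subtype) h2
      rw [commutator_def, map_commutator, ← MonoidHom.range_eq_map, range_subtype] at h3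
      exact h3
    have h2 : (π.comp f).range.subgroupOf (fixedSubgroup α) = derivedSeries ↥(fixedSubgroup α) 2 :=
      le_antisymm (Cfsg.Agent.LThree.le_derivedSeries_of_perfect h1 2) hS.derived
    rw [h2] at hq1
    have h3 : (derivedSeries ↥(fixedSubgroup α) 2).map (e1.trans e2.symm).toMonoidHom = derivedSeries ↥C 2 :=
      map_derivedSeries_eq (e1.trans e2.symm).surjective 2
    have hq2 : IsQuasisimple ↥(derivedSeries ↥C 2) := by
      rw [← h3]
      exact (CpQuot.Congr.isQuasisimple_iff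
        ((derivedSeries ↥(fixedSubgroup α) 2).equivMapOfInjective _ (e1.trans e2.symm).injective)).1 hq1
    exact not_quasisimple h.prime h.star hC (derivedSeries ↥C 2) inferInstance hq2
  · rw [← Nat.card_congr e2.toEquiv]
    exact dvd_card h.prime h.star hC hCne
  · rw [← Nat.card_congr e1.toEquiv]
    exact card_fix hS hr

end Key

end Cfsg.Agent.H76.TW.Field
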