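import Mathlib
import Cfsg.Agent.H76.TW.FieldAbs
import Cfsg.Agent.CpAut.Psl
import Cfsg.Agent.CpAutU.Fixed
import Cfsg.Agent.S0249
import Cfsg.Agent.ClassicalGeometry.PSL2Basic

/-!
# S3694, T9: outer automorphisms of field type, `SL_n` (helper76)

`field_sl` : if `x` induces `X ↦ B σ(X) B⁻¹`, `σ ≠ 1`, `x ^ r = 1` and `C_N(x) = A ∩ N ≠ 1` then `n = 2`, `|F| ≤ 27` and
`|A ∩ N| ≤ 48`.
-/

set_option autoImplicit false

namespace Cfsg.Agent.H76.TW.Field

open Subgroup Matrix Cfsg Cfsg.Agent.H607.TW Cfsg.Agent.CpAut.Fix Cfsg.Agent.CpAut.Psl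
open Cfsg.Agent.ClassicalGeometry.AutPSL.Root (pr pr_surjective)
open Cfsg.Agent.ClassicalGeometry.AutPSL.Auto (cj fld lift lift_pr coe_cj)

universe u

section Lift

variable {G : Type u} [Group G] {F : Type} [Field F] {n : ℕ} {S : Type} [Group S]
  {ι : S →* Matrix.GeneralLinearGroup (Fin n) F} {π : S →* G} {N : Subgroup G}

theorem mt_injective (hM : Model N ι π) : Function.Injective (mt ι) := fun _ _ h => hM.inj (Units.ext h)

theorem tauP_mul (B : Matrix.GeneralLinearGroup (Fin n) F) (σ : F ≃+* F) (x y : Matrix (Fin n) (Fin n) F) :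
    tauP B σ (x * y) = tauP B σ x * tauP B σ y := by
  rw [tauP_apply, tauP_apply, tauP_apply]
  have h1 : (x * y).map σ = x.map σ * y.map σ := Matrix.map_mul (f := (σ : F →+* F))
  have h2 : ((B⁻¹ : Matrix.GeneralLinearGroup (Fin n) F) : Matrix (Fin n) (Fin n) F) * (B : Matrix (Fin n) (Fin n) F) = 1 := by
    rw [← Units.val_mul, inv_mul_cancel, Units.val_one]
  rw [h1]
  calc _ = (B : Matrix (Fin n) (Fin n) F) * x.map σ * 1 * y.map σ *
        ((B⁻¹ : Matrix.GeneralLinearGroup (Fin n) F) : Matrix (Fin n) (Fin n) F) := by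
        rw [mul_one]; simp only [mul_assoc]
    _ = _ := by rw [← h2]; simp only [mul_assoc]

/-- `tauP` is not an anti-automorphism. -/
theorem ind_tauP (h2 : 2 ≤ n) {x : G} {B : Matrix.GeneralLinearGroup (Fin n) F} {σ : F ≃+* F}
    (hτ : Ind ι π x (tauP B σ)) (s : S) : ∃ s' : S, mt ι s' = tauP B σ (mt ι s) ∧ π s' = x * π s * x⁻¹ := by
  rcases hτ with ⟨-, h⟩ | ⟨h, -⟩
  · exact h s
  · exfalso
    let i : Fin n := ⟨0, by omega⟩
    let j : Fin n := ⟨1, by omega⟩
    have hij : i ≠ j := by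
      intro h0
      have h5 : (0 : ℕ) = 1 := congrArg Fin.val h0
      omega
    have h1 := h (Matrix.single i j 1) (Matrix.single j i 1)
    rw [← tauP_mul] at h1
    have h3 := (tauP B σ).injective h1
    rw [Matrix.single_mul_single_same, Matrix.single_mul_single_same] at h3
    have h4 := congrFun (congrFun h3 i) i
    rw [Matrix.single_apply_same, Matrix.single_apply_of_ne _ _ _ _ _ (by intro h5; exact hij h5.1.symm)] at h4
    simp at h4

variable (hM : Model N ι π)

/-- `π` as a map onto `N`. -/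
def piN (hM : Model N ι π) : S →* ↥N := π.codRestrict N (fun s => by rw [← hM.range]; exact ⟨s, rfl⟩)

theorem coe_piN (s : S) : ((piN hM s : ↥N) : G) = π s := rfl

theorem piN_surjective : Function.Surjective (piN hM) := by
  rintro ⟨y, hy⟩
  rw [← hM.range] at hy
  obtain ⟨s, rfl⟩ := hy
  exact ⟨s, rfl⟩

theorem piN_eq_one {s : S} : piN hM s = 1 ↔ π s = 1 := by
  constructor
  · intro h
    have := congrArg Subtype.val h
    exact this
  · intro h
    exact Subtype.ext h

/-- Powers of a lift. -/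
theorem piN_pow [hN : N.Normal] {x : G} {γ : MulAut S}
    (h : ∀ s, MulAut.conjNormal x (piN hM s) = piN hM (γ s)) {r : ℕ} (hx : x ^ r = 1) (s : S) :
    piN hM ((γ ^ r) s) = piN hM s := by
  have h1 : ∀ k : ℕ, ∀ s, piN hM ((γ ^ k) s) = (MulAut.conjNormal x ^ k) (piN hM s) := by
    intro k
    induction k with
    | zero => intro s; rfl
    | succ k ih =>
      intro s
      rw [pow_succ, pow_succ, MulAut.mul_apply, MulAut.mul_apply, ih, ← h]
  rw [h1, ← map_pow, hx, map_one]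
  rfl

end Lift

section SL

variable {G : Type u} [Group G] {N A : Subgroup G} {r : ℕ} {F : Type} [Field F] {n : ℕ}

theorem piN_eq_one_iff_center {π : Matrix.SpecialLinearGroup (Fin n) F →* G} (hM : Model N (iSL n F) π)
    (s : Matrix.SpecialLinearGroup (Fin n) F) : piN hM s = 1 ↔ s ∈ center (Matrix.SpecialLinearGroup (Fin n) F) := by
  rw [piN_eq_one, hM.ker, Matrix.SpecialLinearGroup.mem_center_iff]
  constructor
  · rintro ⟨c, hc⟩
    have hc' : (s : Matrix (Fin n) (Fin n) F) = c • 1 := hc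
    refine ⟨c, ?_, ?_⟩
    · have h1 := s.2
      rw [hc', Matrix.det_smul, Matrix.det_one, mul_one] at h1
      exact h1
    · rw [hc']
      ext i j
      simp [Matrix.scalar_apply, Matrix.diagonal_apply, Matrix.one_apply]
  · rintro ⟨c, -, hc⟩
    refine ⟨c, ?_⟩
    change (s : Matrix (Fin n) (Fin n) F) = c • 1
    rw [← hc]
    ext i j
    simp [Matrix.scalar_apply, Matrix.diagonal_apply, Matrix.one_apply]

/-- **T9, linear case.** -/
theorem field_sl [Finite G] [Fintype F] {π : Matrix.SpecialLinearGroup (Fin n) F →* G} (h : Loc N A r) (hM : Model N (iSL n F) π)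
    {x : G} (hxr : x ^ r = 1) (hcen : ∀ y ∈ A ⊓ N, x * y = y * x) (hle : ∀ y ∈ N, x * y = y * x → y ∈ A)
    (hne : A ⊓ N ≠ ⊥) {B : Matrix.GeneralLinearGroup (Fin n) F} {σ : F ≃+* F} (hσ : σ ≠ 1)
    (hτ : Ind (iSL n F) π x (tauP B σ)) : n = 2 ∧ Nat.card F ≤ 27 ∧ Nat.card ↥(A ⊓ N) ≤ 48 := by
  classical
  have hNn : N.Normal := h.normal
  have hn2 := hM.two
  have : Nontrivial (Fin n) := Fin.nontrivial_iff_two_le.2 hn2
  have hlift : ∀ s, MulAut.conjNormal x (piN hM s) = piN hM ((cj B * fld σ : MulAut (Matrix.SpecialLinearGroup (Fin n) F)) s) := by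
    intro s
    obtain ⟨s', h1, h2⟩ := ind_tauP hn2 hτ s
    have h3 : s' = (cj B * fld σ : MulAut (Matrix.SpecialLinearGroup (Fin n) F)) s := by
      apply mt_injective hM
      rw [h1]
      rfl
    apply Subtype.ext
    rw [MulAut.conjNormal_apply, coe_piN, coe_piN, ← h3, h2]
  have hlr : (lift (cj B * fld σ)) ^ r = 1 := by
    rw [← map_pow]
    apply MulEquiv.ext
    intro y
    obtain ⟨s, rfl⟩ := pr_surjective y
    rw [lift_pr, MulAut.one_apply]
    have h1 := piN_pow hM hlift hxr s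
    have h2 : piN hM (s⁻¹ * ((cj B * fld σ : MulAut (Matrix.SpecialLinearGroup (Fin n) F)) ^ r) s) = 1 := by
      rw [map_mul, h1, map_inv, inv_mul_cancel]
    rw [piN_eq_one_iff_center hM] at h2
    exact (QuotientGroup.eq.2 h2).symm
  obtain ⟨hord, B', hB'⟩ := exists_conj h.prime hlr hσ
  have hS : Sett (piN hM) (cj B' * fld σ * (cj B')⁻¹) (MulAut.conjNormal x)
      ((cj B').toMonoidHom.comp (emb (ι := Fin n) σ)) := by
    refine sett_conj (sett (Fin n) σ) ?_ (piN_surjective hM) (piN_eq_one_iff_center hM) (cj B') ?_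
    · intro s
      exact QuotientGroup.eq_one_iff s
    · intro s
      rw [hlift, hB']
  obtain ⟨h1, h2, h3⟩ := key h hcen hle hne (fun y => MulAut.conjNormal_apply x y) hS (by
    intro a ha
    obtain ⟨c, hc⟩ := exists_emb (σ := σ) (g := (cj B')⁻¹ a) (by
      rw [MulAut.mul_apply, MulAut.mul_apply] at ha
      conv_rhs => rw [← ha, MulAut.inv_apply_self])
    refine ⟨c, ?_⟩
    change cj B' (emb σ c) = a
    rw [hc, MulAut.apply_inv_self])
  have hcF := CpAutU.Fld.card_fixf hord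
  let _ : Fintype ↥(fixf σ) := Fintype.ofFinite _
  have hc2 := CpAutU.Fld.two_le_card σ
  have hns : ¬ IsSimpleGroup (Matrix.SpecialLinearGroup (Fin n) ↥(fixf σ) ⧸
      center (Matrix.SpecialLinearGroup (Fin n) ↥(fixf σ))) := by
    intro hs
    apply h1
    have := quasisimple_of_simple (not_comm_quot (H := Matrix.SpecialLinearGroup (Fin n) ↥(fixf σ)))
    exact this
  have hn : n = 2 := by
    by_contra hn
    exact hns (Cfsg.Agent.S0249.result n (by omega))
  subst hn
  have hc3 : Nat.card ↥(fixf σ) ≤ 3 := by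
    by_contra hc
    exact hns (Matrix.ProjectiveSpecialLinearGroup.rank_two_simple (by omega))
  have hcz : Nat.card ↥(center (Matrix.SpecialLinearGroup (Fin 2) F)) ∣ 2 := by
    by_cases h0 : (2 : F) = 0
    · rw [Cfsg.Agent.ClassicalGeometry.PSL2Basic.card_center_SL2_even h0]
      exact one_dvd _
    · rw [Cfsg.Agent.ClassicalGeometry.PSL2Basic.card_center_SL2_odd h0]
  have hc48 : Nat.card (Matrix.SpecialLinearGroup (Fin 2) ↥(fixf σ)) ∣ 24 := by
    rw [Cfsg.Agent.ClassicalGeometry.PSL2Basic.card_SL2, ← Nat.card_eq_fintype_card]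
    obtain h0 | h0 : Nat.card ↥(fixf σ) = 2 ∨ Nat.card ↥(fixf σ) = 3 := by omega
    · rw [h0]; norm_num
    · rw [h0]; norm_num
  have h48 : Nat.card ↥(A ⊓ N) ∣ 48 := h3.trans (mul_dvd_mul hc48 hcz)
  have hr : r ∣ 2 ^ 4 * 3 := (h2.trans h48)
  have hr23 : r = 2 ∨ r = 3 := by
    rcases (Nat.Prime.dvd_mul h.prime).1 hr with h5 | h5
    · exact Or.inl ((Nat.prime_dvd_prime_iff_eq h.prime Nat.prime_two).1 (h.prime.dvd_of_dvd_pow h5))
    · exact Or.inr ((Nat.prime_dvd_prime_iff_eq h.prime Nat.prime_three).1 h5)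
  refine ⟨rfl, ?_, Nat.le_of_dvd (by norm_num) h48⟩
  rw [Nat.card_eq_fintype_card, hcF]
  calc Nat.card ↥(fixf σ) ^ r ≤ 3 ^ r := Nat.pow_le_pow_left hc3 r
    _ ≤ 3 ^ 3 := Nat.pow_le_pow_right (by norm_num) (by omega)
    _ = 27 := by norm_num

end SL

end Cfsg.Agent.H76.TW.Field
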