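import Mathlib
import Cfsg.Agent.H76.TW.FieldSL
import Cfsg.Agent.CpAutU.Fixed
import Cfsg.Agent.S0278
import Cfsg.Agent.S0279
import Cfsg.Agent.S0283

/-!
# S3694, T9: outer automorphisms of field type, `SU_n` (helper76)

* `exists_gu` : a matrix normalizing `SU_n(q)` is a scalar multiple of a unitary one;
* `field_su` : if `x` induces `X ↦ B σ(X) B⁻¹`, `σ ≠ 1`, `x ^ r = 1`, `r` odd, and `C_N(x) = A ∩ N ≠ 1` then `n = 3`, `q = 8`
  (and `|A ∩ N| ≤ 648`).
-/

set_option autoImplicit false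

namespace Cfsg.Agent.H76.TW.Field

open Subgroup Matrix Cfsg Cfsg.Agent.H607.TW Cfsg.Agent.CpAut.Fix Cfsg.Agent.CpAut.Psl
open Cfsg.Agent.LieClassical.HermBasic Cfsg.Agent.LieClassical.HermSiegel
open Cfsg.Agent.ClassicalGeometry.PSUAutCount (gm semiConj toAut gm_inj gm_mul_inv gm_inv_mul gm_mul)
open Cfsg.Agent.ClassicalGeometry.UnitAutBasic (pr pr_surjective pr_eq_pr_iff exists_scalar_of_mem_center mem_center_of_scalar)

universe u

section Mat

variable {F : Type} [Field F] [Fintype F] {n q : ℕ}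

theorem herm_conj (hF : Fintype.card F = q ^ 2) (u v : Fin n → F) :
    hermForm n F q u v = u ⬝ᵥ (fun i => conj hF (v i)) := rfl

theorem herm_mul (hF : Fintype.card F = q ^ 2) (M : Matrix (Fin n) (Fin n) F) (u v : Fin n → F) :
    hermForm n F q (M *ᵥ u) (M *ᵥ v) = u ⬝ᵥ ((Mᵀ * M.map (conj hF)) *ᵥ (fun i => conj hF (v i))) := by
  rw [herm_conj hF]
  have h1 : (fun i => conj hF ((M *ᵥ v) i)) = (M.map (conj hF)) *ᵥ (fun i => conj hF (v i)) := by
    funext i
    exact RingHom.map_mulVec (conj hF : F →+* F) M v i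
  rw [h1, ← mulVec_mulVec, dotProduct_mulVec u, vecMul_transpose]

/-- unitary matrices -/
theorem mul_conj_eq (hF : Fintype.card F = q ^ 2) {M : Matrix (Fin n) (Fin n) F}
    (h : ∀ u v, hermForm n F q (M *ᵥ u) (M *ᵥ v) = hermForm n F q u v) : Mᵀ * M.map (conj hF) = 1 := by
  ext i j
  have h1 := h (Pi.single i 1) (Pi.single j 1)
  rw [herm_mul hF, herm_conj hF] at h1
  have h2 : (fun k => conj hF ((Pi.single j 1 : Fin n → F) k)) = (Pi.single j 1 : Fin n → F) := by
    funext k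
    by_cases hk : k = j
    · subst hk
      rw [Pi.single_eq_same, map_one]
    · rw [Pi.single_eq_of_ne hk, map_zero]
  rw [h2, single_one_dotProduct, mulVec_single_one, single_one_dotProduct] at h1
  have h3 : (Pi.single j 1 : Fin n → F) i = (1 : Matrix (Fin n) (Fin n) F) i j := by
    rw [one_apply, Pi.single_apply]
  rw [← h3, ← h1]
  rfl

theorem herm_of_mul_conj (hF : Fintype.card F = q ^ 2) {M : Matrix (Fin n) (Fin n) F}
    (h : Mᵀ * M.map (conj hF) = 1) (u v : Fin n → F) : hermForm n F q (M *ᵥ u) (M *ᵥ v) = hermForm n F q u v := by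
  rw [herm_mul hF, h, one_mulVec, herm_conj hF]

/-- A matrix normalizing `SU_n(q)` is a scalar multiple of a unitary one. -/
theorem exists_gu (hF : Fintype.card F = q ^ 2) (hn : 1 ≤ n)
    (hspan : Submodule.span F (Set.range (mt (iSU n F q))) = ⊤) {B : Matrix.GeneralLinearGroup (Fin n) F}
    (hB : ∀ t : SU n F q, ∃ t' : SU n F q, mat t' = (B : Matrix (Fin n) (Fin n) F) * mat t *
      ((B⁻¹ : Matrix.GeneralLinearGroup (Fin n) F) : Matrix (Fin n) (Fin n) F)) :
    ∃ (c : Fˣ) (A : GU n F q), B = scg c * (A : Matrix.GeneralLinearGroup (Fin n) F) := by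
  classical
  obtain ⟨D, hD⟩ : ∃ D, D = (B : Matrix (Fin n) (Fin n) F)ᵀ * (B : Matrix (Fin n) (Fin n) F).map (conj hF) := ⟨_, rfl⟩
  have hmap : ∀ X Y : Matrix (Fin n) (Fin n) F, (X * Y).map (conj hF) = X.map (conj hF) * Y.map (conj hF) :=
    fun X Y => Matrix.map_mul (f := (conj hF : F →+* F))
  have hcomm : ∀ t : SU n F q, (mat t)ᵀ * D = D * (mat t)ᵀ := by
    intro t
    obtain ⟨t', ht'⟩ := hB t
    have h1 : mat t' * (B : Matrix (Fin n) (Fin n) F) = (B : Matrix (Fin n) (Fin n) F) * mat t := by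
      rw [ht', mul_assoc, mul_assoc, ← Units.val_mul, inv_mul_cancel, Units.val_one, mul_one]
    have h2 : (mat t)ᵀ * (mat t).map (conj hF) = 1 := mul_conj_eq hF ((mem_SU_iff t.1).1 t.2)
    have h3 : (mat t')ᵀ * (mat t').map (conj hF) = 1 := mul_conj_eq hF ((mem_SU_iff t'.1).1 t'.2)
    have h4 : (mat t)ᵀ * D * (mat t).map (conj hF) = D := by
      calc (mat t)ᵀ * D * (mat t).map (conj hF)
          = ((B : Matrix (Fin n) (Fin n) F) * mat t)ᵀ * ((B : Matrix (Fin n) (Fin n) F) * mat t).map (conj hF) := by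
            rw [hD, hmap, transpose_mul]; simp only [mul_assoc]
        _ = (B : Matrix (Fin n) (Fin n) F)ᵀ * ((mat t')ᵀ * (mat t').map (conj hF)) *
            (B : Matrix (Fin n) (Fin n) F).map (conj hF) := by
            rw [← h1, hmap, transpose_mul]; simp only [mul_assoc]
        _ = D := by rw [h3, mul_one, hD]
    have h5 : (mat t).map (conj hF) * (mat t)ᵀ = 1 := mul_eq_one_comm.1 h2
    calc (mat t)ᵀ * D = (mat t)ᵀ * D * ((mat t).map (conj hF) * (mat t)ᵀ) := by rw [h5, mul_one]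
      _ = ((mat t)ᵀ * D * (mat t).map (conj hF)) * (mat t)ᵀ := by simp only [mul_assoc]
      _ = D * (mat t)ᵀ := by rw [h4]
  have hcomm2 : ∀ X : Matrix (Fin n) (Fin n) F, X * Dᵀ = Dᵀ * X := by
    intro X
    have hX : X ∈ Submodule.span F (Set.range (mt (iSU n F q))) := by rw [hspan]; trivial
    induction hX using Submodule.span_induction with
    | mem x hx =>
      obtain ⟨t, rfl⟩ := hx
      have h1 := congrArg Matrix.transpose (hcomm t)
      rw [transpose_mul, transpose_mul, transpose_transpose] at h1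
      exact h1.symm
    | zero => rw [zero_mul, mul_zero]
    | add x y _ _ hx hy => rw [add_mul, mul_add, hx, hy]
    | smul a x _ hx => rw [smul_mul_assoc, mul_smul_comm, hx]
  obtain ⟨l, hl⟩ : ∃ l : F, D = l • 1 := by
    have h1 : Dᵀ ∈ Set.range (Matrix.scalar (Fin n)) := by
      rw [Matrix.mem_range_scalar_iff_commute_single']
      intro i j
      exact hcomm2 _
    obtain ⟨l, hl⟩ := h1
    refine ⟨l, ?_⟩
    have h2 := congrArg Matrix.transpose hl
    rw [transpose_transpose] at h2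
    rw [← h2]
    ext i j
    simp [Matrix.scalar_apply, Matrix.diagonal_apply, Matrix.one_apply, eq_comm]
  have hlq : l ^ q = l := by
    have h1 : D ⟨0, by omega⟩ ⟨0, by omega⟩ = l := by
      rw [hl, Matrix.smul_apply, one_apply_eq, smul_eq_mul, mul_one]
    rw [← h1, hD, mul_apply, sum_pow_q hF]
    refine Finset.sum_congr rfl fun k _ => ?_
    rw [transpose_apply, map_apply, conj_apply]
    exact norm_pow_q hF _
  have hl0 : l ≠ 0 := by
    rintro rfl
    have h1 : IsUnit D.det := by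
      rw [hD, det_mul, det_transpose]
      have h2 : ((B : Matrix (Fin n) (Fin n) F).map (conj hF)).det = conj hF (B : Matrix (Fin n) (Fin n) F).det :=
        (RingHom.map_det (conj hF : F →+* F) _).symm
      rw [h2]
      have h3 : IsUnit (B : Matrix (Fin n) (Fin n) F).det := (Matrix.isUnit_iff_isUnit_det _).1 B.isUnit
      exact h3.mul (h3.map _)
    have : Nonempty (Fin n) := ⟨⟨0, by omega⟩⟩
    rw [hl, zero_smul, det_zero] at h1
    exact not_isUnit_zero h1
  obtain ⟨m, hm0, hm⟩ := exists_norm_eq_ne hF hlq hl0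
  let c : Fˣ := Units.mk0 m hm0
  have hcoe : ∀ (c : Fˣ) (X : Matrix.GeneralLinearGroup (Fin n) F),
      ((scg c * X : Matrix.GeneralLinearGroup (Fin n) F) : Matrix (Fin n) (Fin n) F) = (c : F) • (X : Matrix (Fin n) (Fin n) F) := by
    intro c X
    rw [Units.val_mul]
    change Matrix.scalar (Fin n) (c : F) * (X : Matrix (Fin n) (Fin n) F) = _
    rw [Matrix.scalar_apply, ← Matrix.smul_eq_diagonal_mul]
  have hA : scg c⁻¹ * B ∈ GU n F q := by
    rw [mem_GU_iff]
    intro u v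
    apply herm_of_mul_conj hF
    rw [hcoe]
    have h1 : (((c⁻¹ : Fˣ) : F) • (B : Matrix (Fin n) (Fin n) F)).map (conj hF) =
        (conj hF ((c⁻¹ : Fˣ) : F)) • (B : Matrix (Fin n) (Fin n) F).map (conj hF) := by
      ext i j
      rw [map_apply, Matrix.smul_apply, Matrix.smul_apply, map_apply, smul_eq_mul, smul_eq_mul, map_mul]
    rw [h1, transpose_smul, smul_mul_smul_comm, ← hD, hl, smul_smul]
    have h2 : ((c⁻¹ : Fˣ) : F) * conj hF ((c⁻¹ : Fˣ) : F) * l = 1 := by
      rw [Units.val_inv_eq_inv_val, map_inv₀, conj_apply, ← hm]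
      change m⁻¹ * (m ^ q)⁻¹ * (m * m ^ q) = 1
      have h3 : m ^ q ≠ 0 := pow_ne_zero _ hm0
      field_simp
    rw [h2, one_smul]
  refine ⟨c, ⟨_, hA⟩, ?_⟩
  change B = scg c * (scg c⁻¹ * B)
  apply Units.ext
  rw [hcoe, hcoe, smul_smul, ← Units.val_mul, mul_inv_cancel, Units.val_one, one_smul]

omit [Fintype F] in
theorem coe_scg_mul (c : Fˣ) (X : Matrix.GeneralLinearGroup (Fin n) F) :
    ((scg c * X : Matrix.GeneralLinearGroup (Fin n) F) : Matrix (Fin n) (Fin n) F) = (c : F) • (X : Matrix (Fin n) (Fin n) F) := by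
  rw [Units.val_mul]
  change Matrix.scalar (Fin n) (c : F) * (X : Matrix (Fin n) (Fin n) F) = _
  rw [Matrix.scalar_apply, ← Matrix.smul_eq_diagonal_mul]

omit [Fintype F] in
theorem tauP_scg (c : Fˣ) (X : Matrix.GeneralLinearGroup (Fin n) F) (σ : F ≃+* F) (M : Matrix (Fin n) (Fin n) F) :
    tauP (scg c * X) σ M = tauP X σ M := by
  have h1 : (((scg c * X)⁻¹ : Matrix.GeneralLinearGroup (Fin n) F) : Matrix (Fin n) (Fin n) F) =
      ((c⁻¹ : Fˣ) : F) • ((X⁻¹ : Matrix.GeneralLinearGroup (Fin n) F) : Matrix (Fin n) (Fin n) F) := by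
    rw [← coe_scg_mul]
    congr 1
    rw [inv_eq_iff_mul_eq_one]
    apply Units.ext
    rw [mul_assoc, coe_scg_mul, Units.val_mul, coe_scg_mul, mul_smul_comm, smul_smul, ← Units.val_mul c, mul_inv_cancel,
      Units.val_one, one_smul, ← Units.val_mul X, mul_inv_cancel]
  rw [tauP_apply, tauP_apply, h1, coe_scg_mul, smul_mul_assoc, mul_smul_comm, smul_mul_assoc, smul_smul, ← Units.val_mul c⁻¹,
    inv_mul_cancel, Units.val_one, one_smul]

end Mat

section SU

variable {G : Type u} [Group G] {N A : Subgroup G} {r : ℕ} {F : Type} [Field F] [Fintype F] {n q : ℕ}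

theorem piN_eq_one_iff_center' (hF : Fintype.card F = q ^ 2) (hn : 3 ≤ n) {π : ↥(SU n F q) →* G}
    (hM : Model N (iSU n F q) π) (s : ↥(SU n F q)) : piN hM s = 1 ↔ s ∈ center ↥(SU n F q) := by
  rw [piN_eq_one, hM.ker]
  constructor
  · rintro ⟨c, hc⟩
    refine mem_center_of_scalar (c := c) fun v => ?_
    have hc' : mat s = c • 1 := hc
    rw [act_def, hc', Matrix.smul_mulVec, one_mulVec]
  · intro h
    obtain ⟨c, -, hc⟩ := exists_scalar_of_mem_center hF hn h
    refine ⟨c, ?_⟩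
    change mat s = c • 1
    apply Matrix.ext_of_mulVec_single
    intro i
    rw [Matrix.smul_mulVec, one_mulVec]
    exact hc _

/-- **T9, unitary case.** -/
theorem field_su [Finite G] (hF : Fintype.card F = q ^ 2) {π : ↥(SU n F q) →* G} (hn : 3 ≤ n) (h : Loc N A r) (hr2 : r ≠ 2)
    (hM : Model N (iSU n F q) π) {x : G} (hxr : x ^ r = 1) (hcen : ∀ y ∈ A ⊓ N, x * y = y * x)
    (hle : ∀ y ∈ N, x * y = y * x → y ∈ A) (hne : A ⊓ N ≠ ⊥) {B : Matrix.GeneralLinearGroup (Fin n) F} {σ : F ≃+* F}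
    (hσ : σ ≠ 1) (hτ : Ind (iSU n F q) π x (tauP B σ)) : n = 3 ∧ q = 8 ∧ Nat.card ↥(A ⊓ N) ≤ 648 := by
  classical
  have hNn : N.Normal := h.normal
  -- `B` is a multiple of a unitary matrix
  obtain ⟨c, D, hD⟩ : ∃ (c : Fˣ) (D : GU n F q), B = scg c * (D : Matrix.GeneralLinearGroup (Fin n) F) := by
    refine exists_gu hF (by omega) hM.span fun t => ?_
    obtain ⟨t', h1, -⟩ := ind_tauP hM.two hτ ((semiConj 1 σ)⁻¹ t)
    refine ⟨t', ?_⟩
    have h2 : mat t = (mat ((semiConj 1 σ)⁻¹ t)).map σ := by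
      rw [← CpAutU.Fixed.mat_semiConj, MulAut.apply_inv_self]
    rw [h2]
    exact h1
  have hlift : ∀ s, MulAut.conjNormal x (piN hM s) = piN hM (semiConj D σ s) := by
    intro s
    obtain ⟨s', h1, h2⟩ := ind_tauP hM.two hτ s
    have h3 : s' = semiConj D σ s := by
      apply mt_injective hM
      rw [h1, hD, tauP_scg]
      rfl
    apply Subtype.ext
    rw [MulAut.conjNormal_apply, coe_piN, coe_piN, ← h3, h2]
  have hpr : ∀ a b : SU n F q, pr n F q a = pr n F q b ↔ piN hM a = piN hM b := by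
    intro a b
    rw [pr_eq_pr_iff, ← piN_eq_one_iff_center' hF hn hM, map_mul, map_inv, inv_mul_eq_one]
  have hlr : (toAut D σ) ^ r = 1 := by
    apply MulEquiv.ext
    intro y
    obtain ⟨s, rfl⟩ := pr_surjective y
    have h1 : ∀ (k : ℕ) (s : SU n F q), ((toAut D σ) ^ k) (pr n F q s) = pr n F q ((semiConj D σ ^ k) s) := by
      intro k
      induction k with
      | zero => intro s; rfl
      | succ k ih =>
        intro s
        rw [pow_succ, pow_succ, MulAut.mul_apply, MulAut.mul_apply, ← ih]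
        rfl
    rw [h1, MulAut.one_apply, hpr]
    exact piN_pow hM hlift hxr s
  obtain ⟨hord, M, hM'⟩ := CpAutU.Desc.exists_conj hF hn h.prime hr2 hlr hσ
  have hodd := h.prime.odd_of_ne_two hr2
  obtain ⟨s, hs2, hsc, hq⟩ := CpAutU.Fld.exists_s' hF hord hodd
  let _ : Fintype ↥(fixf σ) := Fintype.ofFinite _
  have hF₀ : Fintype.card ↥(fixf σ) = s ^ 2 := by rw [← Nat.card_eq_fintype_card, hsc]
  have hpow : ∀ a ∈ fixf σ, a ^ q = a ^ s := fun a ha => CpAutU.Fld.pow_q hodd hsc hq ha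
  have hS : Sett (piN hM) (semiConj M 1 * semiConj 1 σ * (semiConj M 1)⁻¹) (MulAut.conjNormal x)
      ((semiConj M 1).toMonoidHom.comp (CpAutU.Fixed.embSU (n := n) hF hpow)) := by
    refine sett_conj (CpAutU.Fixed.sett (n := n) hF hn hF₀ hpow) ?_ (piN_surjective hM) (piN_eq_one_iff_center' hF hn hM)
      (semiConj M 1) ?_
    · intro g
      exact QuotientGroup.eq_one_iff g
    · intro g
      rw [hlift, ← hpr]
      have h1 : toAut D σ (pr n F q g) = (toAut M 1 * toAut 1 σ * (toAut M 1)⁻¹ : MulAut (PSU n F q)) (pr n F q g) := by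
        rw [hM']
      have h2 : (toAut M 1)⁻¹ (pr n F q g) = pr n F q ((semiConj M 1)⁻¹ g) := by
        apply (toAut M 1).injective
        rw [MulAut.apply_inv_self]
        change _ = pr n F q (semiConj M 1 ((semiConj M 1)⁻¹ g))
        rw [MulAut.apply_inv_self]
      rw [MulAut.mul_apply, MulAut.mul_apply, h2] at h1
      exact h1
  obtain ⟨h1, h2, h3⟩ := key h hcen hle hne (fun y => MulAut.conjNormal_apply x y) hS (by
    intro a ha
    obtain ⟨c, hc⟩ := CpAutU.Fixed.exists_embSU (ρ := σ) hF hpow (g := (semiConj M 1)⁻¹ a) (by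
      rw [MulAut.mul_apply, MulAut.mul_apply] at ha
      conv_rhs => rw [← ha, MulAut.inv_apply_self])
    refine ⟨c, ?_⟩
    change semiConj M 1 (CpAutU.Fixed.embSU hF hpow c) = a
    rw [hc, MulAut.apply_inv_self])
  have hex : n = 3 ∧ s = 2 := by
    by_contra hex
    apply h1
    have hs : IsSimpleGroup (SU n ↥(fixf σ) s ⧸ center (SU n ↥(fixf σ) s)) := Cfsg.Agent.S0283.result hF₀ n hn hex
    exact quasisimple_of_simple (not_comm_quot (H := ↥(SU n ↥(fixf σ) s)))
  obtain ⟨rfl, rfl⟩ := hex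
  have hcz : Nat.card ↥(center ↥(SU 3 F q)) ∣ 3 := by
    rw [Cfsg.Agent.S0279.result hF 3 le_rfl]
    exact Nat.gcd_dvd_left _ _
  have hcs : Nat.card ↥(SU 3 ↥(fixf σ) 2) = 216 := by
    have h5 := Cfsg.Agent.S0278.result hF₀ 3 (by norm_num)
    have h6 : (∏ i ∈ Finset.range 3, (if Even i then 2 ^ (i + 1) + 1 else 2 ^ (i + 1) - 1)) = 81 := by decide
    rw [h6] at h5
    omega
  have h648 : Nat.card ↥(A ⊓ N) ∣ 648 := h3.trans (by
    rw [hcs]
    exact mul_dvd_mul_left 216 hcz)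
  have hr3 : r = 3 := by
    have hr : r ∣ 2 ^ 3 * 3 ^ 4 := (h2.trans h648)
    rcases (Nat.Prime.dvd_mul h.prime).1 hr with h5 | h5
    · exact absurd ((Nat.prime_dvd_prime_iff_eq h.prime Nat.prime_two).1 (h.prime.dvd_of_dvd_pow h5)) hr2
    · exact (Nat.prime_dvd_prime_iff_eq h.prime Nat.prime_three).1 (h.prime.dvd_of_dvd_pow h5)
  refine ⟨rfl, ?_, Nat.le_of_dvd (by norm_num) h648⟩
  rw [hq, hr3]
  norm_num

end SU

end Cfsg.Agent.H76.TW.Field
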